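import Mathlib
import Cfsg.Agent.FastGrp
import Cfsg.Agent.Prune
set_option linter.all false
prune_inst 0x7f00000000000000000000000000000000000000000000000000000000000000000000000000000000000000000000000000000000000000000000000000000000000000000000000000000000000000003fffffffffffffffffffffffffffbeffbdffffffff
open scoped Cfsg.Agent.FastGrp

/-!
# A simple subnormal factor of a nonabelian minimal normal subgroup

`exists_factor`: if `N` is a nonabelian minimal normal subgroup of the finite group `G` there is a
nonabelian simple subgroup `S ≤ N`, normalized by `N`, with `N ≤ S ⊔ C(S)`, and such that each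
conjugate of `S` is `S` or centralizes `S`.
-/

set_option autoImplicit false

namespace Cfsg.Agent.H612.MinNormal

variable {G : Type*} [Group G]

/-- the conjugate of a subgroup -/
def cj (g : G) (S : Subgroup G) : Subgroup G := S.map (MulAut.conj g).toMonoidHom

theorem mem_cj {g x : G} {S : Subgroup G} : x ∈ cj g S ↔ g⁻¹ * x * g ∈ S := by
  constructor
  · rintro ⟨s, hs, rfl⟩
    have : g⁻¹ * (MulAut.conj g).toMonoidHom s * g = s := by
      simp [mul_assoc]
    rw [this]
    exact hs
  · intro h
    refine ⟨_, h, ?_⟩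
    simp [mul_assoc]

theorem cj_mono {g : G} {S T : Subgroup G} (h : S ≤ T) : cj g S ≤ cj g T := Subgroup.map_mono h

theorem card_cj (g : G) (S : Subgroup G) : Nat.card (cj g S) = Nat.card S :=
  Nat.card_congr (S.equivMapOfInjective _ (MulAut.conj g).injective).toEquiv.symm

theorem mem_normalizer_iff_cj {g : G} {S : Subgroup G} :
    g ∈ Subgroup.normalizer (S : Set G) ↔ cj g S = S := by
  constructor
  · intro h
    ext x
    rw [mem_cj]
    have := Subgroup.mem_normalizer_iff''.1 h x
    exact this.symm
  · intro h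
    rw [Subgroup.mem_normalizer_iff'']
    intro x
    rw [← mem_cj (g := g), h]

/-- normalized by `N`, nontrivial, inside `N` -/
def Q (N K : Subgroup G) : Prop := K ≠ ⊥ ∧ K ≤ N ∧ N ≤ Subgroup.normalizer (K : Set G)

theorem Q_cj {N K : Subgroup G} [N.Normal] (h : Q N K) (g : G) : Q N (cj g K) := by
  have hN : cj g N = N := by
    rw [← mem_normalizer_iff_cj, Subgroup.normalizer_eq_top]
    exact Subgroup.mem_top g
  refine ⟨?_, ?_, ?_⟩
  · intro h1
    apply h.1
    rw [← Subgroup.card_eq_one] at h1 ⊢
    rwa [card_cj] at h1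
  · rw [← hN]
    exact cj_mono h.2.1
  · intro n hn
    rw [mem_normalizer_iff_cj]
    have h1 : g⁻¹ * n * g ∈ N := by
      have := (inferInstance : N.Normal).conj_mem n hn g⁻¹
      rwa [inv_inv] at this
    have h2 := mem_normalizer_iff_cj.1 (h.2.2 h1)
    ext x
    rw [mem_cj, mem_cj, mem_cj]
    nth_rewrite 2 [← h2]
    rw [mem_cj]
    have h3 : g⁻¹ * (n⁻¹ * x * n) * g = (g⁻¹ * n * g)⁻¹ * (g⁻¹ * x * g) * (g⁻¹ * n * g) := by group
    rw [h3]

theorem exists_factor [Finite G] (N : Subgroup G) [hNn : N.Normal] (hN : N ≠ ⊥)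
    (hmin : ∀ K : Subgroup G, K.Normal → K ≤ N → K = ⊥ ∨ K = N)
    (hna : ¬ ∀ a ∈ N, ∀ b ∈ N, a * b = b * a) :
    ∃ S : Subgroup G, S ≤ N ∧ N ≤ Subgroup.normalizer (S : Set G) ∧ IsSimpleGroup S ∧
      ¬ IsMulCommutative S ∧ N ≤ S ⊔ Subgroup.centralizer (S : Set G) ∧
      ∀ g : G, cj g S = S ∨ cj g S ≤ Subgroup.centralizer (S : Set G) := by
  classical
  -- a minimal `S`
  obtain ⟨S, hSQ, hSmin⟩ : ∃ S : Subgroup G, Q N S ∧ ∀ K : Subgroup G, Q N K → K ≤ S → K = S := by
    have hne : ({K : Subgroup G | Q N K}).Nonempty :=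
      ⟨N, hN, le_rfl, by rw [Subgroup.normalizer_eq_top]; exact le_top⟩
    obtain ⟨S, hS⟩ := (Set.toFinite {K : Subgroup G | Q N K}).exists_minimal hne
    exact ⟨S, hS.1, fun K hK hle => le_antisymm hle (hS.2 hK hle)⟩
  have hSN := hSQ.2.1
  -- the conjugates
  have hcj : ∀ g : G, cj g S = S ∨ cj g S ≤ Subgroup.centralizer (S : Set G) := by
    intro g
    have hQg := Q_cj hSQ g
    by_cases hI : S ⊓ cj g S = ⊥
    · right
      intro x hx
      rw [Subgroup.mem_centralizer_iff]
      intro s hs
      have hs' : s ∈ S := hs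
      have h1 : s * x * s⁻¹ * x⁻¹ ∈ cj g S := by
        have h2 := hQg.2.2 (hSN hs')
        rw [Subgroup.mem_normalizer_iff] at h2
        exact (cj g S).mul_mem ((h2 x).1 hx) ((cj g S).inv_mem hx)
      have h2 : s * x * s⁻¹ * x⁻¹ ∈ S := by
        have h3 := hSQ.2.2 (hQg.2.1 hx)
        rw [Subgroup.mem_normalizer_iff] at h3
        have h4 := S.mul_mem hs' ((h3 s⁻¹).1 (S.inv_mem hs'))
        have h5 : s * (x * s⁻¹ * x⁻¹) = s * x * s⁻¹ * x⁻¹ := by group
        rwa [h5] at h4
      have h3 : s * x * s⁻¹ * x⁻¹ ∈ S ⊓ cj g S := ⟨h2, h1⟩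
      rw [hI, Subgroup.mem_bot] at h3
      calc s * x = (s * x * s⁻¹ * x⁻¹) * (x * s) := by group
        _ = x * s := by rw [h3, one_mul]
    · left
      have h1 : Q N (S ⊓ cj g S) := by
        refine ⟨hI, inf_le_left.trans hSN, ?_⟩
        intro n hn
        have h2 := hSQ.2.2 hn
        have h3 := hQg.2.2 hn
        rw [Subgroup.mem_normalizer_iff] at h2 h3 ⊢
        intro x
        rw [Subgroup.mem_inf, Subgroup.mem_inf]
        exact and_congr (h2 x) (h3 x)
      have h2 := hSmin _ h1 inf_le_left
      have h3 : S ≤ cj g S := by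
        have h4 : S ⊓ cj g S ≤ cj g S := inf_le_right
        rwa [h2] at h4
      exact (Subgroup.eq_of_le_of_card_ge h3 (by rw [card_cj])).symm
  -- the normal closure
  have hclosure : Subgroup.normalClosure (S : Set G) = N := by
    rcases hmin (Subgroup.normalClosure (S : Set G)) inferInstance
      (Subgroup.normalClosure_le_normal hSN) with h | h
    · exfalso
      apply hSQ.1
      rw [eq_bot_iff, ← h]
      exact Subgroup.subset_normalClosure
    · exact h
  have hle : N ≤ S ⊔ Subgroup.centralizer (S : Set G) := by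
    rw [← hclosure]
    show Subgroup.closure (Group.conjugatesOfSet (S : Set G)) ≤ _
    rw [Subgroup.closure_le]
    intro x hx
    obtain ⟨s, hs, hsx⟩ := Group.mem_conjugatesOfSet_iff.1 hx
    obtain ⟨g, rfl⟩ := isConj_iff.1 hsx
    have h1 : g * s * g⁻¹ ∈ cj g S := by
      rw [mem_cj]
      have : g⁻¹ * (g * s * g⁻¹) * g = s := by group
      rw [this]
      exact hs
    rcases hcj g with h | h
    · rw [h] at h1
      exact (le_sup_left : S ≤ S ⊔ _) h1
    · exact (le_sup_right : _ ≤ S ⊔ _) (h h1)
  -- nonabelian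
  have hSna : ¬ ∀ a ∈ S, ∀ b ∈ S, a * b = b * a := by
    intro hab
    apply hna
    have h1 : S ≤ Subgroup.centralizer (S : Set G) := by
      intro a ha
      rw [Subgroup.mem_centralizer_iff]
      intro b hb
      exact hab b hb a ha
    have h2 : N ≤ Subgroup.centralizer (S : Set G) := by
      rwa [sup_eq_right.2 h1] at hle
    have h3 : ∀ n ∈ N, N ≤ Subgroup.centralizer ({n} : Set G) := by
      intro n hn
      rw [← hclosure] at hn
      have h4 : Subgroup.normalClosure (S : Set G) ≤ Subgroup.centralizer (N : Set G) := by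
        show Subgroup.closure (Group.conjugatesOfSet (S : Set G)) ≤ _
        rw [Subgroup.closure_le]
        intro x hx
        obtain ⟨s, hs, hsx⟩ := Group.mem_conjugatesOfSet_iff.1 hx
        obtain ⟨g, rfl⟩ := isConj_iff.1 hsx
        rw [SetLike.mem_coe, Subgroup.mem_centralizer_iff]
        intro m hm
        have h5 : g⁻¹ * m * g ∈ N := by
          have := hNn.conj_mem m hm g⁻¹
          rwa [inv_inv] at this
        have h6 := Subgroup.mem_centralizer_iff.1 (h2 h5) s hs
        calc m * (g * s * g⁻¹) = g * ((g⁻¹ * m * g) * s) * g⁻¹ := by group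
          _ = g * (s * (g⁻¹ * m * g)) * g⁻¹ := by rw [h6]
          _ = g * s * g⁻¹ * m := by group
      intro m hm
      rw [Subgroup.mem_centralizer_singleton_iff]
      exact (Subgroup.mem_centralizer_iff.1 (h4 hn) m hm)
    intro a ha b hb
    have := h3 b hb ha
    rw [Subgroup.mem_centralizer_singleton_iff] at this
    exact this
  refine ⟨S, hSN, hSQ.2.2, ?_, ?_, hle, hcj⟩
  · have hnt : Nontrivial S := (Subgroup.nontrivial_iff_ne_bot S).2 hSQ.1
    refine ⟨fun K hK => ?_⟩
    by_cases hKb : K = ⊥
    · exact Or.inl hKb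
    · right
      have h1 : Q N (K.map S.subtype) := by
        refine ⟨?_, ?_, ?_⟩
        · intro h2
          apply hKb
          rwa [Subgroup.map_eq_bot_iff_of_injective _ S.subtype_injective] at h2
        · exact (Subgroup.map_subtype_le K).trans hSN
        · refine hle.trans (sup_le ?_ ?_)
          · intro s hs
            rw [Subgroup.mem_normalizer_iff]
            have key : ∀ t ∈ S, ∀ x, x ∈ (K.map S.subtype : Subgroup G) →
                t * x * t⁻¹ ∈ (K.map S.subtype : Subgroup G) := by
              rintro t ht _ ⟨y, hy, rfl⟩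
              exact ⟨⟨t, ht⟩ * y * ⟨t, ht⟩⁻¹, hK.conj_mem y hy _, rfl⟩
            intro x
            refine ⟨key s hs x, fun hx => ?_⟩
            have h2 := key s⁻¹ (S.inv_mem hs) _ hx
            have h3 : s⁻¹ * (s * x * s⁻¹) * s⁻¹⁻¹ = x := by group
            rwa [h3] at h2
          · intro c hc
            rw [Subgroup.mem_normalizer_iff]
            have key : ∀ c ∈ Subgroup.centralizer (S : Set G), ∀ x,
                x ∈ (K.map S.subtype : Subgroup G) → c * x * c⁻¹ = x := by
              rintro c hc _ ⟨y, hy, rfl⟩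
              have := Subgroup.mem_centralizer_iff.1 hc y y.2
              show c * (y : G) * c⁻¹ = y
              rw [← this]
              group
            intro x
            constructor
            · intro hx
              have := key c hc x hx
              rw [this]
              exact hx
            · intro hx
              have h2 := key c⁻¹ (Subgroup.inv_mem _ hc) _ hx
              have h3 : c⁻¹ * (c * x * c⁻¹) * c⁻¹⁻¹ = x := by group
              rw [h3] at h2
              rw [h2]
              exact hx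
      have h2 := hSmin _ h1 (Subgroup.map_subtype_le K)
      rw [eq_top_iff]
      intro s _
      have h3 : (s : G) ∈ (K.map S.subtype : Subgroup G) := by
        rw [h2]
        exact s.2
      obtain ⟨y, hy, hys⟩ := h3
      have : y = s := Subtype.ext hys
      rw [← this]
      exact hy
  · intro hc
    apply hSna
    intro a ha b hb
    have := hc.is_comm.comm (⟨a, ha⟩ : S) ⟨b, hb⟩
    exact congrArg Subtype.val this

end Cfsg.Agent.H612.MinNormal
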