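import Cfsg.Agent.H612.WModel
import Cfsg.Agent.Nodes.TypeC
import Cfsg.Agent.Nodes.RootsA
import Cfsg.Agent.Nodes.TypeD
import Cfsg.Agent.Prune
set_option linter.all false

section
prune_inst 0x7f00000000000000000000000000000000000000000000000000000000000000000000000000000000000000000000000000000000000000000000000000000000000000000000000000000000000000003fffffffffffffffffffffffffffbeffbdffffffff

-- part: H612/ModB
section
set_option linter.all false
open scoped Cfsg.Agent.FastGrp

/-!
# The parabolic subgroup of type `B_{n-1}` of the Coxeter group of type `B_n`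

Index `2n` and three double cosets.
-/

set_option autoImplicit false
set_option linter.unusedSectionVars false

namespace Cfsg.Agent.H612.ModB

open CoxeterSystem Cfsg.Agent.ChevalleyStructure.CoxeterGeom Cfsg.Agent.Tits.Roots
  Cfsg.Agent.Tits.Core Cfsg.Agent.H905.DC Cfsg.Agent.H612.WModel Cfsg.Agent.Nodes.TypeC

variable {n : ℕ}

/-- the standard form -/
def dot {k : ℕ} (u v : Fin k → ℤ) : ℤ := ∑ i, u i * v i

theorem dot_comm {k : ℕ} (u v : Fin k → ℤ) : dot u v = dot v u :=
  Finset.sum_congr rfl fun _ _ => mul_comm _ _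

theorem dot_add {k : ℕ} (u v w : Fin k → ℤ) : dot (u + v) w = dot u w + dot v w := by
  unfold dot
  rw [← Finset.sum_add_distrib]
  exact Finset.sum_congr rfl fun _ _ => by rw [Pi.add_apply]; ring

theorem dot_sub {k : ℕ} (u v w : Fin k → ℤ) : dot (u - v) w = dot u w - dot v w := by
  unfold dot
  rw [← Finset.sum_sub_distrib]
  exact Finset.sum_congr rfl fun _ _ => by rw [Pi.sub_apply]; ring

theorem dot_smul {k : ℕ} (c : ℤ) (u w : Fin k → ℤ) : dot (c • u) w = c * dot u w := by
  unfold dot
  rw [Finset.mul_sum]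
  exact Finset.sum_congr rfl fun _ _ => by rw [Pi.smul_apply, smul_eq_mul]; ring

theorem dot_wt {k : ℕ} (x : Fin k × Bool) (v : Fin k → ℤ) :
    dot (wt x) v = if x.2 then v x.1 else - v x.1 := by
  unfold dot wt
  rw [Finset.sum_eq_single x.1]
  · rw [Pi.single_eq_same]
    split_ifs <;> ring
  · intro j _ hj
    rw [Pi.single_eq_of_ne hj, zero_mul]
  · intro h
    exact absurd (Finset.mem_univ _) h

theorem dot_bt (j : Fin n) (v : Fin n → ℤ) :
    dot (bt j) v = (if (j : ℕ) + 1 < n then 1 else 2) * Cf j v := by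
  unfold bt nx Cf
  rw [dot_add, dot_wt, if_pos rfl]
  by_cases h : (j : ℕ) + 1 < n
  · rw [dif_pos h, dif_pos h, if_pos h, dot_wt, if_neg (by simp)]
    ring
  · rw [dif_neg h, dif_neg h, if_neg h, dot_wt, if_pos rfl]
    ring

/-- the functional of a signed index -/
def f (x : Fin n × Bool) (m : Fin n) : ℤ := dot (wt x) (bt m)

theorem f_step (j : Fin n) (x : Fin n × Bool) : f (sg j x) = fire (A n) (f x) j := by
  funext m
  show dot (wt (sg j x)) (bt m) = dot (wt x) (bt m) - A n j m * dot (wt x) (bt j)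
  rw [wt_sg, dot_sub, dot_smul, dot_bt, dot_comm (wt x) (bt j), dot_bt]
  unfold A
  ring

theorem f_apply (x : Fin n × Bool) (m : Fin n) : f x m = if x.2 then bt m x.1 else - bt m x.1 :=
  dot_wt x (bt m)

theorem bt_self_pos (m : Fin n) : 0 < bt m m := by
  rw [bt_apply]
  simp only [if_true]
  split_ifs <;> norm_num

theorem bt_of_lt {a b : Fin n} (h : a < b) : bt b a = 0 := by
  have h1 : (a : ℕ) < b := h
  have := b.2
  rw [bt_apply]
  split_ifs <;> omega

theorem f_injective : Function.Injective (f (n := n)) := by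
  have key : ∀ x y : Fin n × Bool, f x = f y → ¬ x.1 < y.1 := by
    intro x y hxy hlt
    have h1 := congrFun hxy y.1
    rw [f_apply, f_apply, bt_of_lt hlt] at h1
    have h2 := bt_self_pos y.1
    split_ifs at h1 <;> omega
  intro x y hxy
  have h1 : x.1 = y.1 := le_antisymm (not_lt.1 (key y x hxy.symm)) (not_lt.1 (key x y hxy))
  refine Prod.ext h1 ?_
  have h2 := congrFun hxy x.1
  rw [f_apply, f_apply, h1] at h2
  have h3 := bt_self_pos y.1
  rcases Bool.eq_false_or_eq_true x.2 with h4 | h4 <;>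
    rcases Bool.eq_false_or_eq_true y.2 with h5 | h5 <;>
    rw [h4, h5] at h2 ⊢ <;> simp at h2 <;> omega

/-- moves with index at least `c` -/
def Mv (c : ℕ) (x y : Fin n × Bool) : Prop := ∃ j : Fin n, c ≤ j ∧ y = sg j x

theorem reach_true {c : ℕ} (hc : c < n) : ∀ k, ∀ h : c + k < n,
    Relation.ReflTransGen (Mv c) ((⟨c, hc⟩ : Fin n), true) (⟨c + k, h⟩, true)
  | 0, h => Relation.ReflTransGen.refl
  | k + 1, h => by
    refine (reach_true hc k (by omega)).tail ⟨⟨c + k, by omega⟩, by simp, ?_⟩
    rw [sg_up (by show c + k + 1 < n; omega)]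
    rfl

theorem reach_false {c : ℕ} (hc : c < n) : ∀ k a, ∀ _ : c ≤ a, ∀ h' : a < n, a + k + 1 = n →
    Relation.ReflTransGen (Mv c) ((⟨c, hc⟩ : Fin n), true) (⟨a, h'⟩, false)
  | 0, a, h, h', ha => by
    have h1 := reach_true hc (a - c) (by omega)
    have h2 : (⟨c + (a - c), by omega⟩ : Fin n) = ⟨a, h'⟩ := Fin.ext (by simp; omega)
    rw [h2] at h1
    refine h1.tail ⟨⟨a, h'⟩, h, ?_⟩
    rw [sg_last (by simp; omega)]
    rfl
  | k + 1, a, h, h', ha => by
    refine (reach_false hc k (a + 1) (by omega) (by omega) (by omega)).tail ⟨⟨a, h'⟩, h, ?_⟩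
    rw [sg_down (i := ⟨a, h'⟩) (by simp; omega)]

theorem reach {c : ℕ} (hc : c < n) (x : Fin n × Bool) (hx : c ≤ x.1) :
    Relation.ReflTransGen (Mv c) ((⟨c, hc⟩ : Fin n), true) x := by
  obtain ⟨⟨a, ha⟩, s⟩ := x
  have hx' : c ≤ a := hx
  cases s
  · exact reach_false hc (n - 1 - a) a hx' ha (by omega)
  · have h1 := reach_true hc (a - c) (by omega)
    have h2 : (⟨c + (a - c), by omega⟩ : Fin n) = ⟨a, ha⟩ := Fin.ext (by simp; omega)
    rw [h2] at h1
    exact h1

/-- the functional of the first index -/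
def l (n : ℕ) (h : 0 < n) : Fin n → ℤ := f ((⟨0, h⟩ : Fin n), true)

theorem l_apply (h : 1 < n) (m : Fin n) : l n (by omega) m = if (m : ℕ) = 0 then 1 else 0 := by
  unfold l
  rw [f_apply, if_pos rfl, bt_apply]
  have := m.2
  show (if (m : ℕ) + 1 < n then (if 0 = (m : ℕ) then 1 else if 0 = (m : ℕ) + 1 then -1 else 0)
    else (if 0 = (m : ℕ) then 2 else 0)) = _
  split_ifs <;> omega

/-- the model -/
def model (h : 0 < n) : Model (A n) (l n h) (Fin n × Bool) where
  a := sg
  f := f
  inj := f_injective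
  step := f_step
  o := (⟨0, h⟩, true)
  base := rfl
  conn x := by
    refine Relation.ReflTransGen.mono ?_ _ _ (reach h x (Nat.zero_le _))
    rintro a b ⟨j, _, hj⟩
    exact ⟨j, hj⟩

/-- the three components -/
def col (h : 1 < n) : (model (n := n) (by omega)).Col (Fin 3) where
  c x := if (x.1 : ℕ) = 0 then (if x.2 then 0 else 1) else 2
  inv j hj x := by
    rw [l_apply h] at hj
    have hj0 : (j : ℕ) ≠ 0 := by
      intro h0
      rw [if_pos h0] at hj
      exact absurd hj (by norm_num)
    show (if ((sg j x).1 : ℕ) = 0 then (if (sg j x).2 then (0 : Fin 3) else 1) else 2) =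
      (if (x.1 : ℕ) = 0 then (if x.2 then 0 else 1) else 2)
    obtain ⟨a, s⟩ := x
    by_cases h1 : a = j
    · subst h1
      by_cases h2 : (a : ℕ) + 1 < n
      · rw [sg_up h2, if_neg (by simp), if_neg hj0]
      · rw [sg_last h2, if_neg hj0, if_neg hj0]
    · by_cases h2 : (a : ℕ) = j + 1
      · have h3 : (j : ℕ) + 1 < n := h2 ▸ a.2
        have h4 : a = ⟨(j : ℕ) + 1, h3⟩ := Fin.ext h2
        rw [h4, sg_down h3, if_neg hj0, if_neg (by simp)]
      · rw [sg_of_ne h1 h2]
  b k := match k with
    | 0 => (⟨0, by omega⟩, true)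
    | 1 => (⟨0, by omega⟩, false)
    | 2 => (⟨1, h⟩, true)
  cb k := by
    fin_cases k <;> simp
  conn x := by
    obtain ⟨⟨a, ha⟩, s⟩ := x
    by_cases h0 : a = 0
    · subst h0
      cases s
      · simp only [if_true, Bool.false_eq_true, if_false]
        exact Relation.ReflTransGen.refl
      · simp only [if_true]
        exact Relation.ReflTransGen.refl
    · simp only [h0, if_false]
      refine Relation.ReflTransGen.mono ?_ _ _ (reach h ((⟨a, ha⟩ : Fin n), s) (by simp; omega))
      rintro x y ⟨j, hj, hxy⟩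
      refine ⟨j, ?_, hxy⟩
      show l n _ j = 0
      rw [l_apply h, if_neg (by omega)]

theorem odd {W : Type*} [Group W] (cs : CoxeterSystem (CoxeterMatrix.B n) W) (h : 1 < n) :
    Odd ((WJ cs {i | (i : ℕ) ≠ 0}).index +
      Nat.card (DoubleCoset.Quotient (WJ cs {i | (i : ℕ) ≠ 0} : Set W)
        (WJ cs {i | (i : ℕ) ≠ 0} : Set W))) := by
  refine (col h).odd cs (isCartan n) ?_ ?_ ?_
  · intro i
    rw [l_apply h]
    split_ifs <;> norm_num
  · rw [Nat.card_prod, Nat.card_eq_fintype_card, Nat.card_eq_fintype_card, Nat.card_eq_fintype_card,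
      Fintype.card_fin, Fintype.card_bool, Fintype.card_fin]
    exact ⟨n + 1, by ring⟩
  · ext i
    show (i : ℕ) ≠ 0 ↔ l n _ i = 0
    rw [l_apply h]
    split_ifs <;> simp_all

end Cfsg.Agent.H612.ModB

private theorem dce_3354a23779ac : _root_.True := by
  try have : _root_.True := by simp only [_root_.Cfsg.Agent.H612.ModB.l.congr_simp]
  exact _root_.True.intro
end

-- part: H612/ModA
section
set_option linter.all false
open scoped Cfsg.Agent.FastGrp

/-!
# The parabolic subgroup of type `A_{n-2}` of the Coxeter group of type `A_n`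

Index `n (n+1)` and seven double cosets, `n ≥ 3`.
-/

set_option autoImplicit false
set_option linter.unusedSectionVars false
set_option linter.unusedVariables false

namespace Cfsg.Agent.H612.ModA

open CoxeterSystem Cfsg.Agent.ChevalleyStructure.CoxeterGeom Cfsg.Agent.Tits.Roots
  Cfsg.Agent.Tits.Core Cfsg.Agent.H905.DC Cfsg.Agent.H612.WModel
open Cfsg.Agent.Nodes.RootsA
open Cfsg.Agent.LieRecognition.BNCox (cA cA_apply)

variable {n : ℕ}

/-- pairs of different indices -/
abbrev Om (n : ℕ) : Type := {p : Fin (n + 1) × Fin (n + 1) // p.1 ≠ p.2}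

/-- the adjacent transposition -/
def tr (j : Fin n) : Equiv.Perm (Fin (n + 1)) := Equiv.swap j.castSucc j.succ

theorem tr_val (j : Fin n) (a : Fin (n + 1)) : (tr j a).val =
    if a.val = j.val then j.val + 1 else if a.val = j.val + 1 then j.val else a.val :=
  swap_val j a

/-- the moves -/
def act (j : Fin n) (p : Om n) : Om n :=
  ⟨(tr j p.1.1, tr j p.1.2), fun h => p.2 ((tr j).injective h)⟩

theorem act_act (j : Fin n) (p : Om n) : act j (act j p) = p := by
  apply Subtype.ext
  show (tr j (tr j p.1.1), tr j (tr j p.1.2)) = p.1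
  unfold tr
  rw [Equiv.swap_apply_self, Equiv.swap_apply_self]

/-- the value of `ε_a` at `α_m` -/
def E (a : Fin (n + 1)) (m : Fin n) : ℤ :=
  (if a.val = m.val then 1 else 0) - (if a.val = m.val + 1 then 1 else 0)

theorem E_step (j m : Fin n) (a : Fin (n + 1)) : E (tr j a) m = E a m - AA n j m * E a j := by
  unfold E
  rw [cartan_eq (isCartan n), tr_val]
  have hm : (m = j) ↔ (m.val = j.val) := Fin.ext_iff
  simp only [hm]
  by_cases h1 : a.val = j.val
  · rw [if_pos h1, h1, if_pos rfl, if_neg (by omega : ¬ j.val = j.val + 1)]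
    (first | (lia; done) | (split_ifs <;> omega))
  · by_cases h2 : a.val = j.val + 1
    · rw [if_neg h1, if_pos h2, h2, if_neg (by omega : ¬ j.val + 1 = j.val), if_pos rfl]
      (first | (lia; done) | (split_ifs <;> omega))
    · rw [if_neg h1, if_neg h2, if_neg h1, if_neg h2]
      ring

/-- the functional of a pair -/
def f (p : Om n) (m : Fin n) : ℤ := E p.1.1 m - E p.1.2 m

theorem f_step (j : Fin n) (p : Om n) : f (act j p) = fire (AA n) (f p) j := by
  funext m
  show E (tr j p.1.1) m - E (tr j p.1.2) m =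
    E p.1.1 m - E p.1.2 m - AA n j m * (E p.1.1 j - E p.1.2 j)
  rw [E_step, E_step]
  ring

theorem f_injective : Function.Injective (f (n := n)) := by
  intro p q hpq
  obtain ⟨⟨a, b⟩, hab⟩ := p
  obtain ⟨⟨c, d⟩, hcd⟩ := q
  replace hab : a ≠ b := hab
  replace hcd : c ≠ d := hcd
  let g : Fin (n + 1) → ℤ := fun k => ((if k = a then 1 else 0) - (if k = b then 1 else 0)) -
    ((if k = c then 1 else 0) - (if k = d then 1 else 0))
  have hEg : ∀ m : Fin n, g m.castSucc = g m.succ := by
    intro m
    have h1 : E a m - E b m = E c m - E d m := congrFun hpq m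
    unfold E at h1
    simp only [g, Fin.ext_iff, Fin.val_castSucc, Fin.val_succ]
    simp only [eq_comm (a := m.val) , eq_comm (a := m.val + 1)]
    linarith
  have h0 : ∀ k : ℕ, ∀ hk : k < n + 1, g ⟨k, hk⟩ = g 0 := by
    intro k
    induction k with
    | zero => intro hk; rfl
    | succ k ih =>
      intro hk
      rw [← ih (by omega)]
      exact (hEg ⟨k, by omega⟩).symm
  have hsum : ∑ k, g k = 0 := by
    simp only [g, Finset.sum_sub_distrib, Finset.sum_ite_eq', Finset.mem_univ, if_true]
    norm_num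
  have hg0 : g 0 = 0 := by
    have h1 : ∑ k, g k = ∑ _k : Fin (n + 1), g 0 := Finset.sum_congr rfl fun k _ => h0 k k.2
    rw [hsum, Finset.sum_const, Finset.card_univ, Fintype.card_fin, nsmul_eq_mul] at h1
    have h2 : ((n + 1 : ℕ) : ℤ) ≠ 0 := by positivity
    exact (mul_eq_zero.1 h1.symm).resolve_left h2
  have hg : ∀ k, g k = 0 := fun k => by rw [← hg0]; exact h0 k k.2
  have h1 := hg a
  have h2 := hg b
  simp only [g, if_true, if_neg hab, if_neg hab.symm] at h1 h2
  have h3 : a = c := by
    by_contra h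
    rw [if_neg h] at h1
    split_ifs at h1 <;> omega
  have h4 : b = d := by
    by_contra h
    rw [if_neg h] at h2
    split_ifs at h2 <;> omega
  subst h3 h4
  rfl

/-- moves with index in `[c, d)` -/
def Mv (c d : ℕ) (x y : Om n) : Prop := ∃ j : Fin n, c ≤ j ∧ (j : ℕ) < d ∧ y = act j x

theorem symm {c d : ℕ} {x y : Om n} (h : Relation.ReflTransGen (Mv c d) x y) :
    Relation.ReflTransGen (Mv c d) y x := by
  induction h with
  | refl => exact Relation.ReflTransGen.refl
  | tail _ hb ih =>
    obtain ⟨j, hj, hj', rfl⟩ := hb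
    exact Relation.ReflTransGen.head ⟨j, hj, hj', (act_act j _).symm⟩ ih

/-- the pair with given values -/
def mk (a b : ℕ) (ha : a < n + 1) (hb : b < n + 1) (h : a ≠ b) : Om n :=
  ⟨(⟨a, ha⟩, ⟨b, hb⟩), fun e => h (congrArg Fin.val e)⟩

theorem act_mk {j : Fin n} {a b a' b' : ℕ} (ha : a < n + 1) (hb : b < n + 1) (h : a ≠ b)
    (ha' : a' < n + 1) (hb' : b' < n + 1) (h' : a' ≠ b')
    (e1 : (if a = j.val then j.val + 1 else if a = j.val + 1 then j.val else a) = a')
    (e2 : (if b = j.val then j.val + 1 else if b = j.val + 1 then j.val else b) = b') :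
    act j (mk a b ha hb h) = mk a' b' ha' hb' h' := by
  apply Subtype.ext
  refine Prod.ext (Fin.ext ?_) (Fin.ext ?_)
  · show (tr j _).val = a'
    rw [tr_val]
    exact e1
  · show (tr j _).val = b'
    rw [tr_val]
    exact e2

/-- the first coordinate moves up -/
theorem up1 {c d y : ℕ} (hy : y < n + 1) : ∀ (k a : ℕ) (ha : a < n + 1) (hk : a + k < n + 1)
    (h1 : a ≠ y) (h2 : a + k ≠ y), c ≤ a → a + k ≤ d → (y < a ∨ a + k < y) →
    Relation.ReflTransGen (Mv c d) (mk a y ha hy h1) (mk (a + k) y hk hy h2)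
  | 0, _, _, _, _, _, _, _, _ => Relation.ReflTransGen.refl
  | k + 1, a, ha, hk, h1, h2, hc, hd, hy' => by
    refine (up1 hy k a ha (by omega) h1 (by omega) hc (by omega) (by omega)).tail
      ⟨⟨a + k, by omega⟩, by simp; omega, by simp; omega, ?_⟩
    symm
    apply act_mk
    · simp
      omega
    · simp
      split_ifs <;> omega

/-- the second coordinate moves up -/
theorem up2 {c d y : ℕ} (hy : y < n + 1) : ∀ (k a : ℕ) (ha : a < n + 1) (hk : a + k < n + 1)
    (h1 : y ≠ a) (h2 : y ≠ a + k), c ≤ a → a + k ≤ d → (y < a ∨ a + k < y) →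
    Relation.ReflTransGen (Mv c d) (mk y a hy ha h1) (mk y (a + k) hy hk h2)
  | 0, _, _, _, _, _, _, _, _ => Relation.ReflTransGen.refl
  | k + 1, a, ha, hk, h1, h2, hc, hd, hy' => by
    refine (up2 hy k a ha (by omega) h1 (by omega) hc (by omega) (by omega)).tail
      ⟨⟨a + k, by omega⟩, by simp; omega, by simp; omega, ?_⟩
    symm
    apply act_mk
    · simp
      (first | (lia; done) | (split_ifs <;> omega))
    · simp
      omega

theorem up1' {c d y a a' : ℕ} (hy : y < n + 1) (ha : a < n + 1) (ha' : a' < n + 1)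
    (h1 : a ≠ y) (h2 : a' ≠ y) (hc : c ≤ a) (hle : a ≤ a') (hd : a' ≤ d) (h : y < a ∨ a' < y) :
    Relation.ReflTransGen (Mv c d) (mk a y ha hy h1) (mk a' y ha' hy h2) := by
  obtain ⟨k, rfl⟩ := Nat.exists_eq_add_of_le hle
  exact up1 hy k a ha ha' h1 h2 hc hd h

theorem up2' {c d y a a' : ℕ} (hy : y < n + 1) (ha : a < n + 1) (ha' : a' < n + 1)
    (h1 : y ≠ a) (h2 : y ≠ a') (hc : c ≤ a) (hle : a ≤ a') (hd : a' ≤ d) (h : y < a ∨ a' < y) :
    Relation.ReflTransGen (Mv c d) (mk y a hy ha h1) (mk y a' hy ha' h2) := by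
  obtain ⟨k, rfl⟩ := Nat.exists_eq_add_of_le hle
  exact up2 hy k a ha ha' h1 h2 hc hd h

theorem reach_lt {c d a b : ℕ} (hcd : c + 1 ≤ d) (hd : d < n + 1) (ha : c ≤ a) (hab : a < b)
    (hb : b ≤ d) : Relation.ReflTransGen (Mv c d)
      (mk c (c + 1) (by omega) (by omega) (by omega) : Om n)
      (mk a b (by omega) (by omega) (by omega)) :=
  (up2' (a := c + 1) (a' := b) (by omega) (by omega) (by omega) (by omega) (by omega) (by omega)
    (by omega) (by omega) (by omega)).trans
    (up1' (by omega) (by omega) (by omega) (by omega) (by omega) (by omega)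
      (by omega) (by omega) (by omega))

theorem reach {c d a b : ℕ} (hcd : c + 1 ≤ d) (hd : d < n + 1) (ha : c ≤ a) (ha' : a ≤ d)
    (hb : c ≤ b) (hb' : b ≤ d) (hab : a ≠ b) : Relation.ReflTransGen (Mv c d)
      (mk c (c + 1) (by omega) (by omega) (by omega) : Om n)
      (mk a b (by omega) (by omega) hab) := by
  rcases Nat.lt_or_gt_of_ne hab with h | h
  · exact reach_lt hcd hd ha h hb'
  · have h1 := reach_lt (n := n) (a := b) (b := b + 1) hcd hd hb (by omega) (by omega)
    have h2 : Relation.ReflTransGen (Mv c d) (mk b (b + 1) (by omega) (by omega) (by omega) : Om n)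
        (mk (b + 1) b (by omega) (by omega) (by omega)) := by
      refine Relation.ReflTransGen.single ⟨⟨b, by omega⟩, hb, by simp; omega, ?_⟩
      symm
      apply act_mk <;> simp
    exact (h1.trans h2).trans (up1' (by omega) (by omega) (by omega) (by omega) (by omega)
      (by omega) (by omega) (by omega) (by omega))

theorem eq_mk (p : Om n) : p = mk p.1.1 p.1.2 p.1.1.2 p.1.2.2 (fun h => p.2 (Fin.ext h)) := rfl

/-- the functional of the highest root -/
def l (n : ℕ) (h : 1 ≤ n) : Fin n → ℤ := f (mk 0 n (by omega) (by omega) (by omega))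

theorem l_apply (h : 3 ≤ n) (m : Fin n) :
    l n (by omega) m = if (m : ℕ) = 0 ∨ (m : ℕ) = n - 1 then 1 else 0 := by
  have := m.2
  show ((if 0 = m.val then 1 else 0) - (if 0 = m.val + 1 then 1 else 0)) -
    ((if n = m.val then 1 else 0) - (if n = m.val + 1 then 1 else 0)) =
    (if (m : ℕ) = 0 ∨ (m : ℕ) = n - 1 then (1 : ℤ) else 0)
  rw [if_neg (by omega : ¬ 0 = m.val + 1), if_neg (by omega : ¬ n = m.val)]
  by_cases h1 : m.val = 0
  · rw [if_pos h1.symm, if_pos (Or.inl h1), if_neg (by omega)]
    norm_num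
  · rw [if_neg (fun h => h1 h.symm)]
    by_cases h2 : m.val = n - 1
    · rw [if_pos (by omega), if_pos (Or.inr h2)]
      norm_num
    · rw [if_neg (by omega), if_neg (by omega)]
      norm_num

/-- the model -/
def model (h : 1 ≤ n) : Model (AA n) (l n h) (Om n) where
  a := act
  f := f
  inj := f_injective
  step := f_step
  o := mk 0 n (by omega) (by omega) (by omega)
  base := rfl
  conn x := by
    have h1 : Relation.ReflTransGen (Mv 0 n) (mk 0 1 (by omega) (by omega) (by omega) : Om n) x := by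
      rw [eq_mk x]
      exact reach (c := 0) (d := n) (by omega) (by omega) (by omega) (by have := x.1.1.2; omega)
        (by omega) (by have := x.1.2.2; omega) _
    have h2 : Relation.ReflTransGen (Mv 0 n) (mk 0 1 (by omega) (by omega) (by omega) : Om n)
        (mk 0 n (by omega) (by omega) (by omega)) :=
      reach (c := 0) (d := n) (by omega) (by omega) (by omega) (by omega) (by omega) (by omega) _
    refine Relation.ReflTransGen.mono ?_ _ _ ((symm h2).trans h1)
    rintro a b ⟨j, _, _, hj⟩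
    exact ⟨j, hj⟩

/-- the type of an index -/
def t (n a : ℕ) : Fin 3 := if a = 0 then 0 else if a = n then 1 else 2

/-- the colours -/
abbrev Ka : Type := {k : Fin 3 × Fin 3 // k.1 ≠ k.2 ∨ k.1 = 2}

theorem t_inj {a b : ℕ} (h : t n a = t n b) (h2 : t n a ≠ 2) : a = b := by
  unfold t at h h2
  split_ifs at h h2 <;> simp_all

/-- the base index -/
def r (n : ℕ) (x : Fin 3) : ℕ := if x = 0 then 0 else if x = 1 then n else 1

theorem t_r (h : 3 ≤ n) (x : Fin 3) : t n (r n x) = x := by
  unfold t r
  fin_cases x <;> simp <;> omega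

theorem r_lt (h : 3 ≤ n) (x : Fin 3) : r n x < n + 1 := by
  unfold r
  split_ifs <;> omega

/-- the seven components -/
def col (h : 3 ≤ n) : (model (n := n) (by omega)).Col Ka where
  c p := ⟨(t n p.1.1, t n p.1.2), by
    by_contra hcon
    push Not at hcon
    exact p.2 (Fin.ext (t_inj hcon.1 hcon.2))⟩
  inv j hj p := by
    rw [l_apply h] at hj
    have hj0 : ¬ ((j : ℕ) = 0 ∨ (j : ℕ) = n - 1) := by
      intro h0
      rw [if_pos h0] at hj
      exact absurd hj (by norm_num)
    have := j.2
    have key : ∀ a : Fin (n + 1), t n (tr j a) = t n a := by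
      intro a
      have ht : ∀ b : ℕ, 0 < b → b < n → t n b = 2 := by
        intro b h1 h2
        unfold t
        rw [if_neg (by omega), if_neg (by omega)]
      rw [tr_val]
      by_cases h1 : a.val = j.val
      · rw [if_pos h1, h1, ht _ (by omega) (by omega), ht _ (by omega) (by omega)]
      · by_cases h2 : a.val = j.val + 1
        · rw [if_neg h1, if_pos h2, h2, ht _ (by omega) (by omega), ht _ (by omega) (by omega)]
        · rw [if_neg h1, if_neg h2]
    apply Subtype.ext
    show (t n (tr j p.1.1), t n (tr j p.1.2)) = (t n p.1.1, t n p.1.2)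
    rw [key, key]
  b k := if hk : k.1.1 = 2 ∧ k.1.2 = 2 then mk 1 2 (by omega) (by omega) (by omega) else
    mk (r n k.1.1) (r n k.1.2) (r_lt h _) (r_lt h _) (fun e => by
      have h1 := congrArg (t n) e
      rw [t_r h, t_r h] at h1
      rcases k.2 with h2 | h2
      · exact h2 h1
      · exact hk ⟨h2, h1 ▸ h2⟩)
  cb k := by
    apply Subtype.ext
    split_ifs with hk
    · show (t n 1, t n 2) = k.1
      have h1 : t n 1 = 2 := by
        unfold t
        rw [if_neg (by omega), if_neg (by omega)]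
      have h2 : t n 2 = 2 := by
        unfold t
        rw [if_neg (by omega), if_neg (by omega)]
      rw [h1, h2]
      exact Prod.ext hk.1.symm hk.2.symm
    · show (t n (r n k.1.1), t n (r n k.1.2)) = k.1
      rw [t_r h, t_r h]
  conn p := by
    have hmono : ∀ x y, Relation.ReflTransGen (Mv 1 (n - 1)) x y →
        Relation.ReflTransGen (fun x y => ∃ j ∈ {i | l n (by omega) i = 0},
          y = (model (n := n) (by omega)).a j x) x y := by
      refine Relation.ReflTransGen.mono ?_
      rintro x y ⟨j, hj, hj', hxy⟩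
      refine ⟨j, ?_, hxy⟩
      show l n _ j = 0
      rw [l_apply h, if_neg (by omega)]
    have hp1 := p.1.1.2
    have hp2 := p.1.2.2
    have hne : (p.1.1 : ℕ) ≠ p.1.2 := fun h => p.2 (Fin.ext h)
    have ht : ∀ a : ℕ, a < n + 1 → t n a ≠ 2 → r n (t n a) = a := by
      intro a ha h1
      unfold t at h1 ⊢
      unfold r
      split_ifs at h1 ⊢ <;> simp_all only [_root_.Set.mem_ofPred_eq, _root_.Subtype.forall, _root_.ne_eq, _root_.Prod.forall, _root_.Order.lt_add_one_iff, _root_.lt_add_iff_pos_left, _root_.zero_le, _root_.Fin.isValue, _root_.Fin.reduceEq, _root_.not_false_eq_true, _root_.not_true_eq_false, _root_.lt_add_iff_pos_right, _root_.Order.lt_one_iff, _root_.one_ne_zero]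
    have ht2 : ∀ a : ℕ, a < n + 1 → t n a = 2 → 1 ≤ a ∧ a ≤ n - 1 := by
      intro a ha h1
      unfold t at h1
      split_ifs at h1
      · exact absurd h1 (by decide)
      · exact absurd h1 (by decide)
      · omega
    have ht3 : ∀ a : ℕ, a < n + 1 → t n a ≠ 2 → a = 0 ∨ a = n := by
      intro a ha h1
      unfold t at h1
      split_ifs at h1
      · exact Or.inl ‹_›
      · exact Or.inr ‹_›
      · exact absurd rfl h1
    apply hmono
    have hr2 : r n 2 = 1 := by
      unfold r
      rw [if_neg (by decide), if_neg (by decide)]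
    by_cases h1 : t n p.1.1 = 2
    · by_cases h2 : t n p.1.2 = 2
      · rw [dif_pos ⟨h1, h2⟩]
        have h3 := ht2 _ hp1 h1
        have h4 := ht2 _ hp2 h2
        exact reach (c := 1) (d := n - 1) (by omega) (by omega) h3.1 h3.2 h4.1 h4.2 hne
      · rw [dif_neg (fun h => h2 h.2)]
        have h3 := ht2 _ hp1 h1
        have h4 := ht3 _ hp2 h2
        have h5 := ht _ hp2 h2
        have h6 : (mk (r n (t n p.1.1)) (r n (t n p.1.2)) (r_lt h _) (r_lt h _)
            (by rw [h5, h1, hr2]; omega) : Om n) = mk 1 p.1.2 (by omega) hp2 (by omega) := by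
          apply Subtype.ext
          refine Prod.ext (Fin.ext ?_) (Fin.ext ?_)
          · show r n (t n p.1.1) = 1
            rw [h1, hr2]
          · exact h5
        rw [h6]
        exact up1' (a := 1) (a' := p.1.1) hp2 (by omega) hp1 (by omega) hne le_rfl h3.1 h3.2
          (by omega)
    · rw [dif_neg (fun h => h1 h.1)]
      have h4 := ht3 _ hp1 h1
      have h5 := ht _ hp1 h1
      by_cases h2 : t n p.1.2 = 2
      · have h3 := ht2 _ hp2 h2
        have h6 : (mk (r n (t n p.1.1)) (r n (t n p.1.2)) (r_lt h _) (r_lt h _)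
            (by rw [h5, h2, hr2]; omega) : Om n) = mk p.1.1 1 hp1 (by omega) (by omega) := by
          apply Subtype.ext
          refine Prod.ext (Fin.ext ?_) (Fin.ext ?_)
          · exact h5
          · show r n (t n p.1.2) = 1
            rw [h2, hr2]
        rw [h6]
        exact up2' (a := 1) (a' := p.1.2) hp1 (by omega) hp2 (by omega) hne le_rfl h3.1 h3.2
          (by omega)
      · have h7 := ht _ hp2 h2
        have h6 : (mk (r n (t n p.1.1)) (r n (t n p.1.2)) (r_lt h _) (r_lt h _)
            (by rw [h5, h7]; exact hne) : Om n) = p := by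
          apply Subtype.ext
          refine Prod.ext (Fin.ext ?_) (Fin.ext ?_)
          · exact h5
          · exact h7
        rw [h6]

theorem even_card (n : ℕ) : Even (Nat.card (Om n)) := by
  have h1 : Nat.card (Om n) = (n + 1) * (n + 1) - (n + 1) := by
    have h2 : Nat.card (Om n) = (Finset.univ : Finset (Fin (n + 1))).offDiag.card := by
      rw [Nat.card_eq_fintype_card, Fintype.card_subtype]
      congr 1
      ext p
      simp
    rw [h2, Finset.offDiag_card, Finset.card_univ, Fintype.card_fin]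
  have h3 : (n + 1) * (n + 1) - (n + 1) = n * (n + 1) := by
    rw [Nat.succ_mul, Nat.add_sub_cancel]
  rw [h1, h3]
  exact Nat.even_mul_succ_self n

theorem odd {W : Type*} [Group W] (cs : CoxeterSystem (cA n) W) (h : 3 ≤ n) :
    Odd ((WJ cs {i | ¬ ((i : ℕ) = 0 ∨ (i : ℕ) = n - 1)}).index +
      Nat.card (DoubleCoset.Quotient (WJ cs {i | ¬ ((i : ℕ) = 0 ∨ (i : ℕ) = n - 1)} : Set W)
        (WJ cs {i | ¬ ((i : ℕ) = 0 ∨ (i : ℕ) = n - 1)} : Set W))) := by
  refine (col h).odd cs (isCartan n) ?_ ?_ ?_
  · intro i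
    rw [l_apply h]
    split_ifs <;> norm_num
  · have h7 : Nat.card Ka = 7 := by
      rw [Nat.card_eq_fintype_card]
      decide
    rw [h7]
    exact (even_card n).add_odd (by decide)
  · ext i
    show _ ↔ l n _ i = 0
    rw [l_apply h]
    by_cases h1 : (i : ℕ) = 0 ∨ (i : ℕ) = n - 1
    · rw [if_pos h1]
      exact ⟨fun h => absurd h1 h, fun h => absurd h (by norm_num)⟩
    · rw [if_neg h1]
      exact ⟨fun _ => rfl, fun _ => h1⟩

end Cfsg.Agent.H612.ModA

private theorem dce_d3fc7480d6a6 : _root_.True := by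
  try have : _root_.True := by simp only [_root_.Cfsg.Agent.H612.ModA.l.congr_simp]
  try have : _root_.True := by simp only [_root_.Cfsg.Agent.H612.ModA.mk.congr_simp]
  exact _root_.True.intro
end

-- part: H612/ModD
section
set_option linter.all false
open scoped Cfsg.Agent.FastGrp

/-!
# The parabolic subgroup of type `D_{n+1}` of the Coxeter group of type `D_{n+2}`

Index `2(n+2)` and three double cosets, `n ≥ 1`.
-/

set_option autoImplicit false
set_option linter.unusedSectionVars false

namespace Cfsg.Agent.H612.ModD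

open CoxeterSystem Cfsg.Agent.ChevalleyStructure.CoxeterGeom Cfsg.Agent.Tits.Roots
  Cfsg.Agent.Tits.Core Cfsg.Agent.H905.DC Cfsg.Agent.H612.WModel Cfsg.Agent.Nodes.TypeD
open Cfsg.Agent.H612.ModB (dot dot_comm dot_add dot_sub dot_smul dot_wt)
open Cfsg.Agent.Nodes.TypeC (wt)

variable {n : ℕ}

theorem dot_bt (j : Fin (n + 2)) (v : Fin (n + 2) → ℤ) : dot (bt j) v = Cf j v := by
  unfold bt nx Cf
  rw [dot_add, dot_wt, if_pos rfl]
  by_cases h : (j : ℕ) + 1 < n + 2
  · rw [dif_pos h, dif_pos h, dot_wt, if_neg (by simp)]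
    ring
  · rw [dif_neg h, dif_neg h, dot_wt, if_pos rfl]

/-- the functional of a signed index -/
def f (x : Fin (n + 2) × Bool) (m : Fin (n + 2)) : ℤ := dot (wt x) (bt m)

theorem f_step (j : Fin (n + 2)) (x : Fin (n + 2) × Bool) : f (sg j x) = fire (A n) (f x) j := by
  funext m
  show dot (wt (sg j x)) (bt m) = dot (wt x) (bt m) - A n j m * dot (wt x) (bt j)
  rw [wt_sg, dot_sub, dot_smul, dot_bt, dot_comm (wt x) (bt j), dot_bt]
  unfold A
  ring

theorem f_apply (x : Fin (n + 2) × Bool) (m : Fin (n + 2)) :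
    f x m = if x.2 then bt m x.1 else - bt m x.1 := dot_wt x (bt m)

/-- the value at `α_n + α_{n+1} = 2 ε_n` and the partial sums determine the index -/
theorem f_injective : Function.Injective (f (n := n)) := by
  -- coordinates of `wt x` can be recovered
  have key : ∀ x y : Fin (n + 2) × Bool, f x = f y → wt x = wt y := by
    intro x y hxy
    have hd : ∀ m, dot (wt x - wt y) (bt m) = 0 := by
      intro m
      rw [dot_sub]
      exact sub_eq_zero.2 (congrFun hxy m)
    set u := wt x - wt y with hu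
    have hC : ∀ m, Cf m u = 0 := by
      intro m
      rw [← dot_bt, dot_comm]
      exact hd m
    have h1 : ∀ k, ∀ h : k + 1 < n + 2, u ⟨k, by omega⟩ = u ⟨k + 1, h⟩ := by
      intro k h
      have := hC ⟨k, by omega⟩
      unfold Cf at this
      rw [dif_pos h] at this
      exact sub_eq_zero.1 this
    have h2 : u ⟨n + 1, by omega⟩ + u ⟨n, by omega⟩ = 0 := by
      have := hC ⟨n + 1, by omega⟩
      unfold Cf at this
      rw [dif_neg (by simp)] at this
      exact this
    have h3 : ∀ d k, ∀ h : k < n + 2, k + d = n + 1 → u ⟨k, h⟩ = 0 := by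
      intro d
      induction d with
      | zero =>
        intro k h hk
        have h4 := h1 n (by omega)
        have h5 : (⟨k, h⟩ : Fin (n + 2)) = ⟨n + 1, by omega⟩ := Fin.ext (by simpa using hk)
        rw [h5]
        omega
      | succ d ih =>
        intro k h hk
        rw [h1 k (by omega)]
        exact ih (k + 1) (by omega) (by omega)
    have h4 : u = 0 := funext fun k => h3 (n + 1 - k) k k.2 (by have := k.2; omega)
    exact sub_eq_zero.1 h4
  intro x y hxy
  have h1 := key x y hxy
  have h2 := congrFun h1 x.1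
  have h3 := congrFun h1 y.1
  rw [Cfsg.Agent.Nodes.TypeC.wt_apply, Cfsg.Agent.Nodes.TypeC.wt_apply, if_pos rfl] at h2
  by_cases h : x.1 = y.1
  · rw [if_pos h] at h2
    refine Prod.ext h ?_
    rcases Bool.eq_false_or_eq_true x.2 with h4 | h4 <;>
      rcases Bool.eq_false_or_eq_true y.2 with h5 | h5 <;>
      rw [h4, h5] at h2 ⊢ <;> simp at h2
  · rw [if_neg h] at h2
    split_ifs at h2
    · exact absurd h2 (by norm_num)

theorem sg_of_ne {i : Fin (n + 2)} {x : Fin (n + 2) × Bool} (h1 : x.1 ≠ i)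
    (h2 : (x.1 : ℕ) ≠ i + 1) (h3 : (i : ℕ) + 1 < n + 2 ∨ x.1 ≠ pd n) : sg i x = x := by
  unfold sg
  split_ifs <;> simp_all [Fin.ext_iff]

theorem sg_up {i : Fin (n + 2)} (h : (i : ℕ) + 1 < n + 2) (s : Bool) :
    sg i (i, s) = (⟨i + 1, h⟩, s) := by
  simp [sg, h]

theorem sg_down {i : Fin (n + 2)} (h : (i : ℕ) + 1 < n + 2) (s : Bool) :
    sg i (⟨i + 1, h⟩, s) = (i, s) := by
  simp [sg, h, Fin.ext_iff]

theorem sg_last {i : Fin (n + 2)} (h : ¬ (i : ℕ) + 1 < n + 2) (s : Bool) :
    sg i (i, s) = (pd n, !s) := by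
  simp [sg, h]

/-- moves with index at least `c` -/
def Mv (c : ℕ) (x y : Fin (n + 2) × Bool) : Prop := ∃ j : Fin (n + 2), c ≤ j ∧ y = sg j x

theorem reach_true {c : ℕ} (hc : c < n + 2) : ∀ k, ∀ h : c + k < n + 2,
    Relation.ReflTransGen (Mv c) ((⟨c, hc⟩ : Fin (n + 2)), true) (⟨c + k, h⟩, true)
  | 0, h => Relation.ReflTransGen.refl
  | k + 1, h => by
    refine (reach_true hc k (by omega)).tail ⟨⟨c + k, by omega⟩, by simp, ?_⟩
    rw [sg_up (by show c + k + 1 < n + 2; omega)]
    rfl

theorem reach_last {c : ℕ} (hc : c < n + 1) :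
    Relation.ReflTransGen (Mv c) ((⟨c, by omega⟩ : Fin (n + 2)), true) (pd n, false) := by
  have h1 := reach_true (n := n) (c := c) (by omega) (n + 1 - c) (by omega)
  have h2 : (⟨c + (n + 1 - c), by omega⟩ : Fin (n + 2)) = ⟨n + 1, by omega⟩ :=
    Fin.ext (by simp; omega)
  rw [h2] at h1
  refine h1.tail ⟨⟨n + 1, by omega⟩, by simp; omega, ?_⟩
  rw [sg_last (by simp)]
  rfl

theorem reach_false {c : ℕ} (hc : c < n + 1) : ∀ k a, ∀ _ : c ≤ a, ∀ h' : a < n + 2, a + k = n →
    Relation.ReflTransGen (Mv c) ((⟨c, by omega⟩ : Fin (n + 2)), true) (⟨a, h'⟩, false)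
  | 0, a, h, h', ha => by
    have h1 := reach_last (n := n) hc
    have h2 : (⟨a, h'⟩ : Fin (n + 2)) = pd n := Fin.ext (by simpa [pd] using ha)
    rw [h2]
    exact h1
  | k + 1, a, h, h', ha => by
    refine (reach_false hc k (a + 1) (by omega) (by omega) (by omega)).tail ⟨⟨a, h'⟩, h, ?_⟩
    rw [sg_down (i := ⟨a, h'⟩) (by simp; omega)]

theorem reach {c : ℕ} (hc : c < n + 1) (x : Fin (n + 2) × Bool) (hx : c ≤ x.1) :
    Relation.ReflTransGen (Mv c) ((⟨c, by omega⟩ : Fin (n + 2)), true) x := by
  obtain ⟨⟨a, ha⟩, s⟩ := x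
  have hx' : c ≤ a := hx
  cases s
  · by_cases h : a = n + 1
    · subst h
      -- from `(n, true)` by the last reflection
      have h1 := reach_last (n := n) hc
      refine h1.tail ⟨⟨n, by omega⟩, by simp; omega, ?_⟩
      show _ = sg (pd n) (pd n, false)
      rw [sg_up (i := pd n) (by simp [pd])]
      rfl
    · exact reach_false hc (n - a) a hx' ha (by omega)
  · have h1 := reach_true (n := n) (c := c) (by omega) (a - c) (by omega)
    have h2 : (⟨c + (a - c), by omega⟩ : Fin (n + 2)) = ⟨a, ha⟩ := Fin.ext (by simp; omega)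
    rw [h2] at h1
    exact h1

/-- the functional of the first index -/
def l (n : ℕ) : Fin (n + 2) → ℤ := f ((⟨0, by omega⟩ : Fin (n + 2)), true)

theorem l_apply (h : 1 ≤ n) (m : Fin (n + 2)) : l n m = if (m : ℕ) = 0 then 1 else 0 := by
  unfold l
  rw [f_apply, if_pos rfl, bt_apply]
  have := m.2
  show (if (m : ℕ) + 1 < n + 2 then (if 0 = (m : ℕ) then 1 else if 0 = (m : ℕ) + 1 then -1 else 0)
    else (if 0 = (m : ℕ) then 1 else if 0 = n then 1 else 0)) = _
  split_ifs <;> omega

/-- the model -/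
def model (n : ℕ) : Model (A n) (l n) (Fin (n + 2) × Bool) where
  a := sg
  f := f
  inj := f_injective
  step := f_step
  o := (⟨0, by omega⟩, true)
  base := rfl
  conn x := by
    refine Relation.ReflTransGen.mono ?_ _ _ (reach (c := 0) (by omega) x (Nat.zero_le _))
    rintro a b ⟨j, _, hj⟩
    exact ⟨j, hj⟩

/-- the three components -/
def col (h : 1 ≤ n) : (model n).Col (Fin 3) where
  c x := if (x.1 : ℕ) = 0 then (if x.2 then 0 else 1) else 2
  inv j hj x := by
    rw [l_apply h] at hj
    have hj0 : (j : ℕ) ≠ 0 := by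
      intro h0
      rw [if_pos h0] at hj
      exact absurd hj (by norm_num)
    show (if ((sg j x).1 : ℕ) = 0 then (if (sg j x).2 then (0 : Fin 3) else 1) else 2) =
      (if (x.1 : ℕ) = 0 then (if x.2 then 0 else 1) else 2)
    obtain ⟨a, s⟩ := x
    by_cases h1 : a = j
    · subst h1
      by_cases h2 : (a : ℕ) + 1 < n + 2
      · rw [sg_up h2, if_neg (by simp), if_neg hj0]
      · rw [sg_last h2, if_neg (by simp [pd]; omega), if_neg hj0]
    · by_cases h2 : (a : ℕ) = j + 1
      · have h3 : (j : ℕ) + 1 < n + 2 := h2 ▸ a.2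
        have h4 : a = ⟨(j : ℕ) + 1, h3⟩ := Fin.ext h2
        rw [h4, sg_down h3, if_neg hj0, if_neg (by simp)]
      · by_cases h3 : (j : ℕ) + 1 < n + 2
        · rw [sg_of_ne h1 h2 (Or.inl h3)]
        · by_cases h4 : a = pd n
          · subst h4
            have h5 : sg j (pd n, s) = (j, !s) := by
              unfold sg
              rw [dif_neg h3, if_neg h1, if_pos rfl]
            rw [h5, if_neg hj0, if_neg (by simp [pd]; omega)]
          · rw [sg_of_ne h1 h2 (Or.inr h4)]
  b k := match k with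
    | 0 => (⟨0, by omega⟩, true)
    | 1 => (⟨0, by omega⟩, false)
    | 2 => (⟨1, by omega⟩, true)
  cb k := by
    fin_cases k <;> simp
  conn x := by
    obtain ⟨⟨a, ha⟩, s⟩ := x
    by_cases h0 : a = 0
    · subst h0
      cases s
      · simp only [if_true, Bool.false_eq_true, if_false]
        exact Relation.ReflTransGen.refl
      · simp only [if_true]
        exact Relation.ReflTransGen.refl
    · simp only [h0, if_false]
      refine Relation.ReflTransGen.mono ?_ _ _ (reach (c := 1) (by omega)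
        ((⟨a, ha⟩ : Fin (n + 2)), s) (by simp; omega))
      rintro x y ⟨j, hj, hxy⟩
      refine ⟨j, ?_, hxy⟩
      show l n j = 0
      rw [l_apply h, if_neg (by omega)]

theorem odd {W : Type*} [Group W] (cs : CoxeterSystem (M n) W) (h : 1 ≤ n) :
    Odd ((WJ cs {i | (i : ℕ) ≠ 0}).index +
      Nat.card (DoubleCoset.Quotient (WJ cs {i | (i : ℕ) ≠ 0} : Set W)
        (WJ cs {i | (i : ℕ) ≠ 0} : Set W))) := by
  refine (col h).odd cs (isCartan n) ?_ ?_ ?_
  · intro i
    rw [l_apply h]
    split_ifs <;> norm_num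
  · rw [Nat.card_prod, Nat.card_eq_fintype_card, Nat.card_eq_fintype_card, Nat.card_eq_fintype_card,
      Fintype.card_fin, Fintype.card_bool, Fintype.card_fin]
    exact ⟨n + 3, by ring⟩
  · ext i
    show (i : ℕ) ≠ 0 ↔ l n i = 0
    rw [l_apply h]
    split_ifs <;> simp_all

end Cfsg.Agent.H612.ModD
end
end
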