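import Cfsg.Agent.LieRecognition.BNCox
import Cfsg.Agent.Nodes.TypeD
import Cfsg.Agent.Prune
set_option linter.all false
prune_inst 0x7f00000000000000000000000000000000000000000000000000000000000000000000000000000000000000000000000000000000000000000000000000000000000000000000000000000000000000003fffffffffffffffffffffffffffbeffbdffffffff
open scoped Cfsg.Agent.FastGrp

/-!
# Symmetries of Coxeter matrices

Sets of nodes invariant under all symmetries of the matrices of type `A_n`, `B_n`, `D_n`.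
-/

set_option autoImplicit false

namespace Cfsg.Agent.H612.Sym

open Cfsg.Agent.LieRecognition.BNCox (cA cA_apply)

theorem image_eq {I : Type*} [Finite I] (σ : Equiv.Perm I) (J : Set I) (h : ∀ i ∈ J, σ i ∈ J) :
    σ '' J = J := by
  refine Set.eq_of_subset_of_ncard_le ?_ ?_ (Set.toFinite J)
  · rintro _ ⟨i, hi, rfl⟩
    exact h i hi
  · rw [Set.ncard_image_of_injective J σ.injective]

theorem image_eq_of_fix {n : ℕ} (σ : Equiv.Perm (Fin n)) (h : ∀ i : Fin n, (i : ℕ) = 0 → σ i = i) :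
    σ '' {i : Fin n | (i : ℕ) ≠ 0} = {i : Fin n | (i : ℕ) ≠ 0} := by
  apply image_eq
  intro i hi h0
  apply hi
  have h1 := h (σ i) h0
  have h2 := σ.injective h1
  rw [h2] at h0
  exact h0

/-! ### type `A` -/

theorem mA_val (i j : ℕ) : Cfsg.Agent.LieRecognition.CoxClass.mA i j =
    if i = j then 1 else if i + 1 = j ∨ j + 1 = i then 3 else 2 := rfl

theorem sym_A {n : ℕ} (σ : Equiv.Perm (Fin n)) (hσ : ∀ i j, cA n (σ i) (σ j) = cA n i j) :
    σ '' {i : Fin n | ¬ ((i : ℕ) = 0 ∨ (i : ℕ) = n - 1)} =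
      {i : Fin n | ¬ ((i : ℕ) = 0 ∨ (i : ℕ) = n - 1)} := by
  apply image_eq
  intro i hi h0
  replace hi : ¬ ((i : ℕ) = 0 ∨ (i : ℕ) = n - 1) := hi
  have hin := i.2
  let a : Fin n := ⟨i - 1, by omega⟩
  let b : Fin n := ⟨i + 1, by omega⟩
  have ha : (a : ℕ) = i - 1 := rfl
  have hb : (b : ℕ) = i + 1 := rfl
  have h1 := hσ i a
  have h2 := hσ i b
  rw [cA_apply, cA_apply, mA_val, mA_val, if_neg (by omega : ¬ (i : ℕ) = a),
    if_pos (by omega : (i : ℕ) + 1 = a ∨ (a : ℕ) + 1 = i)] at h1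
  rw [cA_apply, cA_apply, mA_val, mA_val, if_neg (by omega : ¬ (i : ℕ) = b),
    if_pos (by omega : (i : ℕ) + 1 = b ∨ (b : ℕ) + 1 = i)] at h2
  have h3 := (σ i).2
  have h4 := (σ a).2
  have h5 := (σ b).2
  have h6 : (σ a : ℕ) ≠ σ b := by
    intro h
    have := σ.injective (Fin.ext h)
    have := congrArg Fin.val this
    omega
  split_ifs at h1 h2 <;> omega

/-! ### type `B` -/

theorem B_apply (n : ℕ) (i j : Fin n) : CoxeterMatrix.B n i j = if (i : ℕ) = j then 1 else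
    if (i : ℕ) = n - 1 ∧ (j : ℕ) = n - 2 ∨ (j : ℕ) = n - 1 ∧ (i : ℕ) = n - 2
      then 4 else (if (j : ℕ) + 1 = i ∨ (i : ℕ) + 1 = j then 3 else 2) := by
  show (if i = j then 1 else _) = _
  by_cases h : i = j
  · rw [if_pos h, if_pos (congrArg Fin.val h)]
  · rw [if_neg h, if_neg (fun h' => h (Fin.ext h'))]

theorem B_eq_three {n : ℕ} {i j : Fin n} : CoxeterMatrix.B n i j = 3 ↔
    ((i : ℕ) + 1 = j ∨ (j : ℕ) + 1 = i) ∧
      ¬ ((i : ℕ) = n - 1 ∧ (j : ℕ) = n - 2 ∨ (j : ℕ) = n - 1 ∧ (i : ℕ) = n - 2) := by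
  rw [B_apply]
  split_ifs with h1 h2 h3
  · exact ⟨fun h => absurd h (by norm_num), fun h => by omega⟩
  · exact ⟨fun h => absurd h (by norm_num), fun h => absurd h2 h.2⟩
  · exact ⟨fun _ => ⟨h3.symm, h2⟩, fun _ => rfl⟩
  · exact ⟨fun h => absurd h (by norm_num), fun h => absurd h.1.symm h3⟩

theorem B_eq_two {n : ℕ} {i j : Fin n} : CoxeterMatrix.B n i j = 2 ↔
    (i : ℕ) ≠ j ∧ ¬ ((i : ℕ) + 1 = j ∨ (j : ℕ) + 1 = i) := by
  have := i.2
  have := j.2
  rw [B_apply]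
  split_ifs with h1 h2 h3
  · exact ⟨fun h => absurd h (by norm_num), fun h => absurd h1 h.1⟩
  · exact ⟨fun h => absurd h (by norm_num), fun h => by omega⟩
  · exact ⟨fun h => absurd h (by norm_num), fun h => absurd h3.symm h.2⟩
  · exact ⟨fun _ => ⟨h1, fun h => h3 h.symm⟩, fun _ => rfl⟩

theorem sym_B {n : ℕ} (hn : 3 ≤ n) (σ : Equiv.Perm (Fin n))
    (hσ : ∀ i j, CoxeterMatrix.B n (σ i) (σ j) = CoxeterMatrix.B n i j) :
    σ '' {i : Fin n | (i : ℕ) ≠ 0} = {i : Fin n | (i : ℕ) ≠ 0} := by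
  apply image_eq_of_fix
  intro i hi
  have hin := i.2
  by_contra hne
  have hk : (σ i : ℕ) ≠ 0 := fun h => hne (Fin.ext (h.trans hi.symm))
  let a : Fin n := ⟨1, by omega⟩
  have ha : (a : ℕ) = 1 := rfl
  have h1 : CoxeterMatrix.B n (σ i) (σ a) = 3 := by
    rw [hσ, B_eq_three]
    omega
  rw [B_eq_three] at h1
  have h2 : ∀ j (hj : j < n), j ≠ σ i → j ≠ σ a →
      ¬ ((σ i : ℕ) + 1 = j ∨ j + 1 = (σ i : ℕ)) := by
    intro j hj hj1 hj2
    obtain ⟨k, hk⟩ := σ.surjective ⟨j, hj⟩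
    have hk' : (σ k : ℕ) = j := congrArg Fin.val hk
    subst hk'
    have hk1 : (k : ℕ) ≠ i := fun h => hj1 (by rw [Fin.ext h])
    have hk2 : (k : ℕ) ≠ a := fun h => hj2 (by rw [Fin.ext h])
    have h3 : CoxeterMatrix.B n (σ i) (σ k) = 2 := by
      rw [hσ, B_eq_two]
      omega
    exact (B_eq_two.1 h3).2
  have hki := (σ i).2
  have h3 := h2 ((σ i : ℕ) - 1) (by omega)
  have h4 := fun h => h2 ((σ i : ℕ) + 1) h
  by_cases h5 : (σ i : ℕ) + 1 < n
  · have h6 := h4 h5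
    omega
  · omega

/-! ### type `D` -/

theorem D_apply (n : ℕ) (i j : Fin (n + 2)) : Cfsg.Agent.Nodes.TypeD.M n i j =
    if (i : ℕ) = j then 1 else if (((j : ℕ) < n + 1 ∧ (i : ℕ) + 1 = j ∨ (j : ℕ) = n + 1 ∧ (i : ℕ) + 2 = j) ∨
      ((i : ℕ) < n + 1 ∧ (j : ℕ) + 1 = i ∨ (i : ℕ) = n + 1 ∧ (j : ℕ) + 2 = i)) then 3 else 2 := by
  rw [Cfsg.Agent.Nodes.TypeD.M_apply]
  by_cases h : i = j
  · rw [if_pos h, if_pos (congrArg Fin.val h)]
  · rw [if_neg h, if_neg (fun h' => h (Fin.ext h'))]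
    rfl

/-- adjacency in type `D` -/
def AdjD (n i j : ℕ) : Prop := ((j < n + 1 ∧ i + 1 = j ∨ j = n + 1 ∧ i + 2 = j) ∨
      (i < n + 1 ∧ j + 1 = i ∨ i = n + 1 ∧ j + 2 = i))

theorem D_eq_three {n : ℕ} {i j : Fin (n + 2)} :
    Cfsg.Agent.Nodes.TypeD.M n i j = 3 ↔ AdjD n i j := by
  rw [D_apply]
  unfold AdjD
  split_ifs with h1 h2
  · constructor
    · intro h
      exact absurd h (by norm_num)
    · intro h
      omega
  · exact ⟨fun _ => h2, fun _ => rfl⟩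
  · exact ⟨fun h => absurd h (by norm_num), fun h => absurd h h2⟩

theorem sym_D {n : ℕ} (hn : 3 ≤ n) (σ : Equiv.Perm (Fin (n + 2)))
    (hσ : ∀ i j, Cfsg.Agent.Nodes.TypeD.M n (σ i) (σ j) = Cfsg.Agent.Nodes.TypeD.M n i j) :
    σ '' {i : Fin (n + 2) | (i : ℕ) ≠ 0} = {i : Fin (n + 2) | (i : ℕ) ≠ 0} := by
  apply image_eq_of_fix
  intro i hi
  have hin := i.2
  by_contra hne
  have hk : (σ i : ℕ) ≠ 0 := fun h => hne (Fin.ext (h.trans hi.symm))
  have hadj : ∀ i j, AdjD n (σ i) (σ j) ↔ AdjD n i j := by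
    intro i j
    rw [← D_eq_three, ← D_eq_three, hσ]
  let a : Fin (n + 2) := ⟨1, by omega⟩
  have ha : (a : ℕ) = 1 := rfl
  have h1 : AdjD n (σ i) (σ a) := (hadj i a).2 (by unfold AdjD; omega)
  -- `σ i` has only the neighbour `σ a`
  have h2 : ∀ j (hj : j < n + 2), AdjD n (σ i) j → j = σ a := by
    intro j hj h
    obtain ⟨k, hk⟩ := σ.surjective ⟨j, hj⟩
    have hk' : (σ k : ℕ) = j := congrArg Fin.val hk
    rw [← hk', hadj] at h
    have h3 : k = a := Fin.ext (by unfold AdjD at h; omega)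
    rw [← hk', h3]
  -- `σ a` has only the neighbours `σ i` and `σ b`
  let b : Fin (n + 2) := ⟨2, by omega⟩
  have hb : (b : ℕ) = 2 := rfl
  have h3 : ∀ j (hj : j < n + 2), AdjD n (σ a) j → j = σ i ∨ j = σ b := by
    intro j hj h
    obtain ⟨k, hk⟩ := σ.surjective ⟨j, hj⟩
    have hk' : (σ k : ℕ) = j := congrArg Fin.val hk
    rw [← hk', hadj] at h
    have h3 : (k : ℕ) = 0 ∨ (k : ℕ) = 2 := by unfold AdjD at h; omega
    rcases h3 with h3 | h3
    · left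
      rw [← hk', Fin.ext (h3.trans hi.symm)]
    · right
      rw [← hk', Fin.ext (h3.trans hb.symm)]
  have hki := (σ i).2
  generalize (σ i : ℕ) = x at *
  generalize (σ a : ℕ) = y at *
  generalize (σ b : ℕ) = z at *
  have h4 := h2 (x - 1) (by omega)
  have h5 := fun h => h2 (x + 1) h
  have h6 := h3 (n - 2) (by omega)
  have h7 := h3 n (by omega)
  have h8 := h3 (n + 1) (by omega)
  unfold AdjD at h1 h4 h5 h6 h7 h8
  by_cases h9 : x < n
  · have h10 := h5 (by omega)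
    clear h5 h6 h7 h8 h2 h3
    omega
  · have h10 : y = n - 1 := by
      clear h5 h6 h7 h8 h2 h3 h4
      omega
    subst h10
    clear h2 h3 h4 h5 h1
    omega

end Cfsg.Agent.H612.Sym
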